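import Cfsg.Agent.ClassicalGeometry.SympGamma
import Cfsg.Agent.S0765

/-!
# Root elements of the symplectic groups, semilinear calculus (S4180, rows `PSp`)
-/

set_option autoImplicit false

namespace Cfsg.Agent.H97.DG

open Cfsg Cfsg.Agent.ClassicalGeometry.SympBasic Cfsg.Agent.ClassicalGeometry.SympAutSemi

variable {F : Type*} [Field F] {m : ℕ}

/-- vectors -/
abbrev Vec (m : ℕ) (F : Type*) := Fin m ⊕ Fin m → F

/-- short root elements -/
def et (u v : Vec m F) (s : F) : Matrix.symplecticGroup (Fin m) F :=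
  transv (u + v) s * transv u (-s) * transv v (-s)

theorem rho_et {u v : Vec m F} (h : sympForm m F u v = 0) (s : F) (x : Vec m F) :
    rho m F (et u v s) x = x + (s * sympForm m F x u) • v + (s * sympForm m F x v) • u := by
  have h' : sympForm m F v u = 0 := by rw [sympForm_swap, h, neg_zero]
  rw [et, map_mul, map_mul, Equiv.Perm.mul_apply, Equiv.Perm.mul_apply, rho_transv, rho_transv, rho_transv]
  simp only [sympForm_add_left, sympForm_add_right, sympForm_smul_left, sympForm_self, h, h', mul_zero, add_zero,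
    smul_add]
  module

theorem et_mul {u v : Vec m F} (h : sympForm m F u v = 0) (s t : F) : et u v s * et u v t = et u v (s + t) := by
  apply rho_injective
  ext1 x
  have h' : sympForm m F v u = 0 := by rw [sympForm_swap, h, neg_zero]
  rw [map_mul, Equiv.Perm.mul_apply, rho_et h, rho_et h, rho_et h]
  simp only [sympForm_add_left, sympForm_smul_left, sympForm_self, h, h', mul_zero, add_zero]
  module

theorem et_zero {u v : Vec m F} (h : sympForm m F u v = 0) : et u v (0 : F) = 1 := by
  apply rho_injective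
  ext1 x
  rw [rho_et h, map_one]
  simp

theorem et_comm {u v : Vec m F} (h : sympForm m F u v = 0) (s : F) : et u v s = et v u s := by
  have h' : sympForm m F v u = 0 := by rw [sympForm_swap, h, neg_zero]
  apply rho_injective
  ext1 x
  rw [rho_et h, rho_et h']
  module

theorem et_inv {u v : Vec m F} (h : sympForm m F u v = 0) (s : F) : (et u v s)⁻¹ = et u v (-s) := by
  rw [inv_eq_iff_mul_eq_one, et_mul h, add_neg_cancel, et_zero h]

theorem et_smul {u v : Vec m F} (h : sympForm m F u v = 0) (a b s : F) : et (a • u) (b • v) s = et u v (a * b * s) := by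
  apply rho_injective
  ext1 x
  rw [rho_et h, rho_et (by rw [sympForm_smul_left, sympForm_smul_right, h, mul_zero, mul_zero])]
  simp only [sympForm_smul_right]
  module

theorem et_self (u : Vec m F) (s : F) : et u u s = transv u (2 * s) := by
  apply rho_injective
  ext1 x
  rw [rho_et (sympForm_self u), rho_transv]
  module

/-- the commutator formula -/
theorem et_commutator {u v v' w : Vec m F} (h1 : sympForm m F u v = 0) (h2 : sympForm m F u v' = 0)
    (h3 : sympForm m F v w = 0) (h4 : sympForm m F v' w = 0) (h5 : sympForm m F u w = 0) (s t : F) :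
    et u v s * et v' w t = et u w (s * t * sympForm m F v' v) * (et v' w t * et u v s) := by
  apply rho_injective
  ext1 x
  have h1' : sympForm m F v u = 0 := by rw [sympForm_swap, h1, neg_zero]
  have h2' : sympForm m F v' u = 0 := by rw [sympForm_swap, h2, neg_zero]
  have h3' : sympForm m F w v = 0 := by rw [sympForm_swap, h3, neg_zero]
  have h5' : sympForm m F w u = 0 := by rw [sympForm_swap, h5, neg_zero]
  have h6 : sympForm m F v v' = - sympForm m F v' v := sympForm_swap _ _
  rw [map_mul, map_mul, map_mul, Equiv.Perm.mul_apply, Equiv.Perm.mul_apply, Equiv.Perm.mul_apply, rho_et h1, rho_et h4,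
    rho_et h5, rho_et h4, rho_et h1]
  simp only [sympForm_add_left, sympForm_smul_left, sympForm_self, h2, h3, h4, h5, h1', h2', h3', h5', h6,
    mul_zero, add_zero]
  module

/-- conjugation of transvections by semisimilitudes -/
theorem conj_transv {g : Equiv.Perm (Vec m F)} {φ : F ≃+* F} {l : F} (hl : l ≠ 0) (hg : IsSemi g φ l) (v : Vec m F)
    (c : F) : g * rho m F (transv v c) * g⁻¹ = rho m F (transv (g v) (φ c * l⁻¹)) := by
  have h := conjHom_transv (⟨g, φ, l, hl, hg⟩ : semiSim m F) hl hg v c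
  rw [← h, rho_conjHom]

theorem conj_et {g : Equiv.Perm (Vec m F)} {φ : F ≃+* F} {l : F} (hl : l ≠ 0) (hg : IsSemi g φ l) (u v : Vec m F)
    (s : F) : g * rho m F (et u v s) * g⁻¹ = rho m F (et (g u) (g v) (φ s * l⁻¹)) := by
  have e : ∀ a b c : Equiv.Perm (Vec m F), g * (a * b * c) * g⁻¹ = (g * a * g⁻¹) * (g * b * g⁻¹) * (g * c * g⁻¹) := by
    intro a b c; group
  rw [et, map_mul, map_mul, e, conj_transv hl hg, conj_transv hl hg, conj_transv hl hg, et, map_mul, map_mul, hg.1]
  simp only [map_neg, neg_mul]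

/-! ### the frame -/

/-- the opposite index -/
abbrev op (a : Fin m ⊕ Fin m) : Fin m ⊕ Fin m := a.swap

/-- signs -/
def sg (F : Type*) [Field F] (a : Fin m ⊕ Fin m) : F := Sum.elim (fun _ => -1) (fun _ => 1) a

theorem sg_op (a : Fin m ⊕ Fin m) : sg F (op a) = - sg F a := by
  rcases a with i | i
  · simp [sg]
  · simp [sg]

theorem sg_ne (a : Fin m ⊕ Fin m) : sg F a ≠ 0 := by
  rcases a with i | i
  · simp [sg]
  · simp [sg]

theorem op_op (a : Fin m ⊕ Fin m) : op (op a) = a := Sum.swap_swap a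

/-- basis vectors -/
def bv (F : Type*) [Field F] (a : Fin m ⊕ Fin m) : Vec m F := Pi.single a 1

theorem bv_apply (a b : Fin m ⊕ Fin m) : bv F a b = if b = a then 1 else 0 := by
  rw [bv, Pi.single_apply]

theorem form_bv (a : Fin m ⊕ Fin m) (v : Vec m F) : sympForm m F (bv F a) v = sg F a * v (op a) := by
  rcases a with i | i
  · rw [bv, sympForm_single_inl_left]; simp [sg]
  · rw [bv, sympForm_single_inr_left]; simp [sg]

theorem form_bv' (a : Fin m ⊕ Fin m) (v : Vec m F) : sympForm m F v (bv F a) = - (sg F a * v (op a)) := by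
  rw [sympForm_swap, form_bv]

theorem form_bb {a b : Fin m ⊕ Fin m} (h : b ≠ op a) : sympForm m F (bv F a) (bv F b) = 0 := by
  rw [form_bv, bv_apply, if_neg (Ne.symm h), mul_zero]

theorem form_bo (a : Fin m ⊕ Fin m) : sympForm m F (bv F (op a)) (bv F a) = sg F (op a) := by
  rw [form_bv, op_op, bv_apply, if_pos rfl, mul_one]

theorem eq_sum (v : Vec m F) : v = ∑ a, v a • bv F a := by
  funext b
  rw [Finset.sum_apply]
  simp [bv_apply]

theorem form_sum (u v : Vec m F) : sympForm m F u v = ∑ a, sg F a * u a * v (op a) := by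
  rw [sympForm_eq_sum, Fintype.sum_sum_type, ← Finset.sum_add_distrib]
  refine Finset.sum_congr rfl fun i _ => ?_
  simp [sg]
  ring

/-- monomial semilinear maps -/
def mono (π : Equiv.Perm (Fin m ⊕ Fin m)) (c : Fin m ⊕ Fin m → Fˣ) (σ : F ≃+* F) : Equiv.Perm (Vec m F) where
  toFun v := fun a => (c (π.symm a) : F) * σ (v (π.symm a))
  invFun v := fun a => σ.symm (((c a)⁻¹ : Fˣ) * v (π a))
  left_inv v := by
    funext a
    simp
  right_inv v := by
    funext a
    simp

theorem mono_apply (π : Equiv.Perm (Fin m ⊕ Fin m)) (c : Fin m ⊕ Fin m → Fˣ) (σ : F ≃+* F) (v : Vec m F)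
    (a : Fin m ⊕ Fin m) : mono π c σ v a = (c (π.symm a) : F) * σ (v (π.symm a)) := rfl

theorem mono_bv (π : Equiv.Perm (Fin m ⊕ Fin m)) (c : Fin m ⊕ Fin m → Fˣ) (σ : F ≃+* F) (a : Fin m ⊕ Fin m) :
    mono π c σ (bv F a) = (c a : F) • bv F (π a) := by
  funext b
  rw [mono_apply, bv_apply, Pi.smul_apply, bv_apply, smul_eq_mul]
  by_cases h : b = π a
  · rw [if_pos h, h, Equiv.symm_apply_apply, if_pos rfl, map_one]
  · rw [if_neg h, if_neg (fun e => h (by rw [← e, Equiv.apply_symm_apply])), map_zero, mul_zero, mul_zero]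

theorem isSemi_mono {π : Equiv.Perm (Fin m ⊕ Fin m)} {c : Fin m ⊕ Fin m → Fˣ} {σ : F ≃+* F} {l : F}
    (hπ : ∀ a, π (op a) = op (π a)) (hc : ∀ a, (c a : F) * c (op a) * sg F (π a) = l * sg F a) :
    IsSemi (mono π c σ) σ l := by
  refine ⟨fun u v => ?_, fun a v => ?_, fun u v => ?_⟩
  · funext b
    simp only [mono_apply, Pi.add_apply, map_add]
    ring
  · funext b
    simp only [mono_apply, Pi.smul_apply, smul_eq_mul, map_mul]
    ring
  · rw [form_sum, form_sum, map_sum, Finset.mul_sum, ← Equiv.sum_comp π]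
    refine Finset.sum_congr rfl fun a _ => ?_
    rw [mono_apply, mono_apply, ← hπ, Equiv.symm_apply_apply, Equiv.symm_apply_apply, map_mul, map_mul]
    have h1 : σ (sg F a) = sg F a := by
      rcases a with i | i
      · simp [sg]
      · simp [sg]
    rw [h1]
    linear_combination (σ (u a) * σ (v (op a))) * hc a

/-- short root elements of the frame -/
def R (F : Type*) [Field F] (a b : Fin m ⊕ Fin m) (s : F) : Equiv.Perm (Vec m F) := rho m F (et (bv F a) (bv F b) s)

/-- long root elements of the frame -/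
def L (F : Type*) [Field F] (a : Fin m ⊕ Fin m) (s : F) : Equiv.Perm (Vec m F) := rho m F (transv (bv F a) s)

theorem R_comm {a b : Fin m ⊕ Fin m} (h : b ≠ op a) (s : F) : R F a b s = R F b a s := by
  rw [R, et_comm (form_bb h)]; rfl

theorem R_mul {a b : Fin m ⊕ Fin m} (h : b ≠ op a) (s t : F) : R F a b s * R F a b t = R F a b (s + t) := by
  rw [R, R, ← map_mul, et_mul (form_bb h)]; rfl

theorem R_zero {a b : Fin m ⊕ Fin m} (h : b ≠ op a) : R F a b (0 : F) = 1 := by
  rw [R, et_zero (form_bb h), map_one]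

theorem R_inv {a b : Fin m ⊕ Fin m} (h : b ≠ op a) (s : F) : (R F a b s)⁻¹ = R F a b (-s) := by
  rw [R, ← map_inv, et_inv (form_bb h)]; rfl

theorem R_apply {a b : Fin m ⊕ Fin m} (h : b ≠ op a) (s : F) (x : Vec m F) :
    R F a b s x = x + (s * sympForm m F x (bv F a)) • bv F b + (s * sympForm m F x (bv F b)) • bv F a :=
  rho_et (form_bb h) s x

theorem R_self (a : Fin m ⊕ Fin m) (s : F) : R F a a s = L F a (2 * s) := by
  rw [R, et_self]; rfl

theorem op_ne (a : Fin m ⊕ Fin m) : a ≠ op a := by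
  rcases a with i | i <;> simp

theorem mono_R {π : Equiv.Perm (Fin m ⊕ Fin m)} {c : Fin m ⊕ Fin m → Fˣ} {σ : F ≃+* F} {l : F} (hl : l ≠ 0)
    (hπ : ∀ a, π (op a) = op (π a)) (hs : IsSemi (mono π c σ) σ l) {a b : Fin m ⊕ Fin m} (h : b ≠ op a) (s : F) :
    mono π c σ * R F a b s * (mono π c σ)⁻¹ = R F (π a) (π b) ((c a : F) * c b * σ s * l⁻¹) := by
  rw [R, conj_et hl hs, mono_bv, mono_bv, et_smul (form_bb (fun e => h (π.injective (by rw [e, hπ]))))]
  rw [R]
  congr 2
  ring

theorem mono_L {π : Equiv.Perm (Fin m ⊕ Fin m)} {c : Fin m ⊕ Fin m → Fˣ} {σ : F ≃+* F} {l : F} (hl : l ≠ 0)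
    (hs : IsSemi (mono π c σ) σ l) (a : Fin m ⊕ Fin m) (s : F) :
    mono π c σ * L F a s * (mono π c σ)⁻¹ = L F (π a) ((c a : F) ^ 2 * σ s * l⁻¹) := by
  rw [L, conj_transv hl hs, mono_bv, L]
  apply congrArg
  apply rho_injective
  ext1 x
  rw [rho_transv, rho_transv, sympForm_smul_right]
  module

/-- the commutator formula for the frame -/
theorem R_mem {M : Subgroup (Equiv.Perm (Vec m F))} {a b d : Fin m ⊕ Fin m} (h1 : b ≠ op a) (h2 : a ≠ b)
    (h3 : d ≠ op b) (h4 : d ≠ b) (h5 : d ≠ op a) (hab : ∀ s, R F a b s ∈ M) (hbd : ∀ s, R F (op b) d s ∈ M) (s : F) :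
    R F a d s ∈ M := by
  have h := congrArg (rho m F) (et_commutator (u := bv F a) (v := bv F b) (v' := bv F (op b)) (w := bv F d)
    (form_bb h1) (form_bb (fun e => h2 (by rw [← op_op a, ← e, op_op]))) (form_bb h3)
    (form_bb (by rw [op_op]; exact h4)) (form_bb h5) s (sg F (op b))⁻¹)
  rw [map_mul, map_mul, map_mul, form_bo, mul_assoc, inv_mul_cancel₀ (sg_ne _), mul_one] at h
  have h6 : R F a d s = R F a b s * R F (op b) d (sg F (op b))⁻¹ * (R F (op b) d (sg F (op b))⁻¹ * R F a b s)⁻¹ := by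
    rw [eq_mul_inv_iff_mul_eq]
    exact h.symm
  rw [h6]
  exact M.mul_mem (M.mul_mem (hab _) (hbd _)) (M.inv_mem (M.mul_mem (hbd _) (hab _)))

end Cfsg.Agent.H97.DG
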